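import Mathlib.RingTheory.Binomial
import Mathlib.LinearAlgebra.Matrix.Notation
import Mathlib.Data.Matrix.Mul
import Mathlib.Algebra.BigOperators.Intervals
import Mathlib.Tactic.Ring
import Mathlib.Tactic.LinearCombination
import Mathlib.Tactic.Abel

/-!
# Kostant's commutation formula for an integral `sl₂`-triple of matrices

`E n`, `F n` are the divided powers of integral matrices `E 1`, `F 1` with `[E 1, F 1] = diag h`,
`E 1` of weight `2`, `F 1` of weight `-2`. Main result `kostant`:
`E m * F n = ∑ k, F (n - k) * diag (choose (h - m - n + 2 k) k) * E (m - k)`.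
-/

set_option autoImplicit false

open Finset

namespace Groth.Agent.RedSub.H476.Kostant

set_option linter.unusedSectionVars false

variable {J : Type} [Fintype J] [DecidableEq J]

/-- Extension of a sequence of matrices by zero to integer indices. -/
def ext (E : ℕ → Matrix J J ℤ) (a : ℤ) : Matrix J J ℤ := if 0 ≤ a then E a.toNat else 0

theorem ext_natCast (E : ℕ → Matrix J J ℤ) (n : ℕ) : ext E (n : ℤ) = E n := by
  simp [ext]

theorem ext_neg (E : ℕ → Matrix J J ℤ) {a : ℤ} (ha : a < 0) : ext E a = 0 := by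
  simp [ext, not_le.mpr ha]

/-- Diagonal matrix of a function of the weight. -/
def dg (h : J → ℤ) (p : ℤ → ℤ) : Matrix J J ℤ := Matrix.diagonal fun j => p (h j)

theorem smul_inj {n : ℕ} {X Y : Matrix J J ℤ} (h : ((n : ℤ) + 1) • X = ((n : ℤ) + 1) • Y) : X = Y := by
  ext i j
  have := congrFun (congrFun h i) j
  simp only [Matrix.smul_apply, smul_eq_mul] at this
  exact mul_left_cancel₀ (by positivity) this

section

variable {h : J → ℤ} {E : ℕ → Matrix J J ℤ} (E0 : E 0 = 1)
  (Emul : ∀ m n, E m * E n = ((m + n).choose m : ℤ) • E (m + n))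

include Emul

theorem one_mul' (n : ℕ) : E 1 * E n = ((n : ℤ) + 1) • E (n + 1) := by
  rw [Emul 1 n, add_comm 1 n]
  simp

theorem mul_one'' (n : ℕ) : E n * E 1 = ((n : ℤ) + 1) • E (n + 1) := by
  rw [Emul n 1]
  simp

include E0

/-- Weights of the divided powers. -/
theorem wt_pow {c : ℤ} (wtE : ∀ j k, E 1 j k ≠ 0 → h j = h k + c) :
    ∀ (n : ℕ) (j k : J), E n j k ≠ 0 → h j = h k + c * n
  | 0, j, k, hn => by
    rw [E0] at hn
    by_cases hjk : j = k
    · subst hjk; simp
    · exact absurd (Matrix.one_apply_ne hjk) hn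
  | n + 1, j, k, hn => by
    have h1 : ((n : ℤ) + 1) * E (n + 1) j k ≠ 0 := mul_ne_zero (by positivity) hn
    have h2 : (E 1 * E n) j k ≠ 0 := by
      rw [one_mul' Emul n]
      simpa using h1
    rw [Matrix.mul_apply] at h2
    obtain ⟨l, -, hl⟩ := Finset.exists_ne_zero_of_sum_ne_zero h2
    have h3 := wtE j l (left_ne_zero_of_mul hl)
    have h4 := wt_pow wtE n l k (right_ne_zero_of_mul hl)
    rw [h3, h4]
    push_cast
    ring

theorem mul_dg {c : ℤ} (wtE : ∀ j k, E 1 j k ≠ 0 → h j = h k + c) (n : ℕ) (p : ℤ → ℤ) :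
    E n * dg h p = dg h (fun t => p (t - c * n)) * E n := by
  ext j k
  simp only [dg, Matrix.mul_diagonal, Matrix.diagonal_mul]
  by_cases hn : E n j k = 0
  · simp [hn]
  · have := wt_pow E0 Emul wtE n j k hn
    rw [this, mul_comm]
    congr 2
    ring

end

theorem dg_add (h : J → ℤ) (p q : ℤ → ℤ) : dg h p + dg h q = dg h (fun t => p t + q t) := by
  simp [dg, Matrix.diagonal_add]

theorem dg_mul (h : J → ℤ) (p q : ℤ → ℤ) : dg h p * dg h q = dg h (fun t => p t * q t) := by
  simp [dg]

theorem smul_dg (h : J → ℤ) (c : ℤ) (p : ℤ → ℤ) : c • dg h p = dg h (fun t => c * p t) := by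
  ext i j
  by_cases hij : i = j
  · subst hij; simp [dg]
  · simp [dg, Matrix.diagonal_apply_ne _ hij]

section

variable {h : J → ℤ} {E F : ℕ → Matrix J J ℤ} (E0 : E 0 = 1) (F0 : F 0 = 1)
  (Emul : ∀ m n, E m * E n = ((m + n).choose m : ℤ) • E (m + n))
  (Fmul : ∀ m n, F m * F n = ((m + n).choose m : ℤ) • F (m + n))
  (wtE : ∀ j k, E 1 j k ≠ 0 → h j = h k + 2) (wtF : ∀ j k, F 1 j k ≠ 0 → h j = h k - 2)
  (lie : E 1 * F 1 - F 1 * E 1 = Matrix.diagonal h)

include E0 F0 Emul Fmul wtE wtF lie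

theorem E_one_mul_F (n : ℕ) :
    E 1 * F (n + 1) = F (n + 1) * E 1 + F n * dg h (fun t => t - n) := by
  have wtF' : ∀ j k, F 1 j k ≠ 0 → h j = h k + (-2) := fun j k hj => by rw [wtF j k hj]; ring
  have hH : E 1 * F 1 = F 1 * E 1 + dg h (fun t => t) := by
    exact sub_eq_iff_eq_add'.mp lie
  induction n with
  | zero => simpa [F0] using hH
  | succ n ih =>
    apply smul_inj (n := n + 1)
    have h1 := one_mul' Fmul (n + 1)
    have h2 := one_mul' Fmul n
    have hF : dg h (fun t => t) * F (n + 1) = F (n + 1) * dg h (fun t => t - 2 * (n + 1)) := by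
      rw [mul_dg F0 Fmul wtF' (n + 1)]
      congr 2
      funext t
      push_cast
      ring
    calc (((n + 1 : ℕ) : ℤ) + 1) • (E 1 * F (n + 1 + 1))
        = E 1 * ((((n + 1 : ℕ) : ℤ) + 1) • F (n + 1 + 1)) := by rw [Matrix.mul_smul]
      _ = E 1 * F 1 * F (n + 1) := by rw [← h1, Matrix.mul_assoc]
      _ = F 1 * (E 1 * F (n + 1)) + dg h (fun t => t) * F (n + 1) := by
          rw [hH, Matrix.add_mul, Matrix.mul_assoc]
      _ = F 1 * (F (n + 1) * E 1) + F 1 * F n * dg h (fun t => t - n) +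
            F (n + 1) * dg h (fun t => t - 2 * (n + 1)) := by
          rw [ih, Matrix.mul_add, Matrix.mul_assoc (F 1) (F n), hF]
      _ = (((n + 1 : ℕ) : ℤ) + 1) • (F (n + 1 + 1) * E 1) +
            F (n + 1) * (((n : ℤ) + 1) • dg h (fun t => t - n) + dg h (fun t => t - 2 * (n + 1))) := by
          rw [← Matrix.mul_assoc, h1, h2, Matrix.smul_mul, Matrix.smul_mul, Matrix.mul_add,
            Matrix.mul_smul, add_assoc]
      _ = (((n + 1 : ℕ) : ℤ) + 1) • (F (n + 1 + 1) * E 1 +
            F (n + 1) * dg h (fun t => t - (n + 1 : ℕ))) := by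
          rw [smul_add, ← Matrix.mul_smul (F (n + 1)), smul_dg, smul_dg, dg_add]
          congr 3
          funext t
          push_cast
          ring

/-- The integer-indexed form. -/
theorem E_one_mul_ext (b : ℤ) :
    E 1 * ext F b = ext F b * E 1 + ext F (b - 1) * dg h (fun t => t - (b - 1)) := by
  rcases lt_trichotomy b 0 with hb | rfl | hb
  · rw [ext_neg F hb, ext_neg F (by omega : b - 1 < 0)]
    simp
  · rw [ext_neg F (by omega : (0 : ℤ) - 1 < 0)]
    have : ext F 0 = 1 := by rw [← F0]; exact ext_natCast F 0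
    simp [this]
  · obtain ⟨n, rfl⟩ : ∃ n : ℕ, b = n + 1 := ⟨(b - 1).toNat, by omega⟩
    have h1 : ext F ((n : ℤ) + 1) = F (n + 1) := by exact_mod_cast ext_natCast F (n + 1)
    have h2 : ext F ((n : ℤ) + 1 - 1) = F n := by
      rw [add_sub_cancel_right]; exact ext_natCast F n
    rw [h1, h2, E_one_mul_F E0 F0 Emul Fmul wtE wtF lie n]
    simp

omit F0 Fmul wtE wtF lie in
theorem E_one_mul_ext' (a : ℤ) : E 1 * ext E a = (a + 1) • ext E (a + 1) := by
  rcases lt_trichotomy a (-1) with hb | rfl | hb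
  · rw [ext_neg E (by omega : a < 0), ext_neg E (by omega : a + 1 < 0)]
    simp
  · rw [ext_neg E (by omega : (-1 : ℤ) < 0)]
    simp
  · obtain ⟨n, rfl⟩ : ∃ n : ℕ, a = n := ⟨a.toNat, by omega⟩
    have h1 : ext E ((n : ℤ) + 1) = E (n + 1) := by exact_mod_cast ext_natCast E (n + 1)
    rw [h1, ext_natCast, one_mul' Emul]

/-- **Kostant's formula**. -/
theorem kostant (m : ℕ) (b : ℤ) (M : ℕ) (hM : m < M) :
    E m * ext F b = ∑ k ∈ range M,
      ext F (b - k) * dg h (fun t => Ring.choose (t - m - b + 2 * k) k) * ext E (m - k) := by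
  induction m generalizing M with
  | zero =>
    rw [E0, Matrix.one_mul, Finset.sum_eq_single_of_mem 0 (Finset.mem_range.mpr hM)]
    · have h1 : ext E (((0 : ℕ) : ℤ) - ((0 : ℕ) : ℤ)) = 1 := by
        rw [← E0]; exact ext_natCast E 0
      rw [h1]
      simp only [Ring.choose_zero_right]
      have h2 : dg h (fun _ => (1 : ℤ)) = 1 := by simp [dg]
      rw [h2]
      simp
    · intro k _ hk
      rw [ext_neg E (by omega : ((0 : ℕ) : ℤ) - (k : ℤ) < 0), Matrix.mul_zero]
  | succ m ih =>
    obtain ⟨M', rfl⟩ : ∃ M', M = M' + 1 := ⟨M - 1, by omega⟩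
    apply smul_inj (n := m)
    have hfirst : ∀ k : ℕ, E 1 * dg h (fun t => Ring.choose (t - m - b + 2 * k) k) * ext E (m - k) =
        dg h (fun t => ((m : ℤ) + 1 - k) * Ring.choose (t - 2 - m - b + 2 * k) k) *
          ext E ((m : ℤ) + 1 - k) := by
      intro k
      rw [mul_dg (n := 1) E0 Emul wtE, Matrix.mul_assoc, E_one_mul_ext' E0 Emul, Matrix.mul_smul,
        ← Matrix.smul_mul, smul_dg]
      congr 2
      · funext t
        congr 1
        ring
      · ring
    have hstep : ((m : ℤ) + 1) • (E (m + 1) * ext F b) =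
        ∑ k ∈ range M', (ext F (b - k) * (dg h (fun t => ((m : ℤ) + 1 - k) *
            Ring.choose (t - 2 - m - b + 2 * k) k) * ext E ((m : ℤ) + 1 - k)) +
          ext F (b - k - 1) * (dg h (fun t => (t - (b - k - 1)) *
            Ring.choose (t - m - b + 2 * k) k) * ext E (m - k))) := by
      rw [← Matrix.smul_mul, ← one_mul' Emul m, Matrix.mul_assoc, ih M' (by omega), Matrix.mul_sum]
      refine Finset.sum_congr rfl fun k _ => ?_
      rw [← Matrix.mul_assoc, ← Matrix.mul_assoc, E_one_mul_ext E0 F0 Emul Fmul wtE wtF lie,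
        Matrix.add_mul, Matrix.add_mul, ← hfirst k, ← dg_mul]
      simp only [Matrix.mul_assoc]
    rw [hstep, Finset.sum_add_distrib, Finset.smul_sum, Finset.sum_range_succ' _ M']
    have hext : ∑ k ∈ range M', ext F (b - k) * (dg h (fun t => ((m : ℤ) + 1 - k) *
            Ring.choose (t - 2 - m - b + 2 * k) k) * ext E ((m : ℤ) + 1 - k)) =
        ∑ k ∈ range (M' + 1), ext F (b - k) * (dg h (fun t => ((m : ℤ) + 1 - k) *
            Ring.choose (t - 2 - m - b + 2 * k) k) * ext E ((m : ℤ) + 1 - k)) := by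
      rw [Finset.sum_range_succ]
      rcases eq_or_ne M' (m + 1) with rfl | hne
      · have : (fun t : ℤ => ((m : ℤ) + 1 - ((m + 1 : ℕ) : ℤ)) *
            Ring.choose (t - 2 - m - b + 2 * ((m + 1 : ℕ) : ℤ)) (m + 1)) = fun _ => 0 := by
          funext t; push_cast; ring
        rw [this]
        simp [dg]
      · rw [ext_neg E (by omega : (m : ℤ) + 1 - (M' : ℤ) < 0)]
        simp
    rw [hext, Finset.sum_range_succ' _ M', add_right_comm, ← Finset.sum_add_distrib]
    congr 1
    · refine Finset.sum_congr rfl fun k _ => ?_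
      have e1 : b - ((k + 1 : ℕ) : ℤ) = b - k - 1 := by push_cast; ring
      have e2 : (m : ℤ) + 1 - ((k + 1 : ℕ) : ℤ) = m - k := by push_cast; ring
      have e3 : ((m + 1 : ℕ) : ℤ) - ((k + 1 : ℕ) : ℤ) = m - k := by push_cast; ring
      rw [e1, e2, e3, ← Matrix.mul_add, ← Matrix.add_mul, dg_add, Matrix.mul_assoc,
        ← Matrix.mul_smul, ← Matrix.smul_mul, smul_dg]
      congr 3
      funext t
      set H : ℤ := t - m - b + 2 * k with hH
      have a1 : t - 2 - m - b + 2 * ((k + 1 : ℕ) : ℤ) = H := by rw [hH]; push_cast; ring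
      have a2 : t - ((m + 1 : ℕ) : ℤ) - b + 2 * ((k + 1 : ℕ) : ℤ) = H + 1 := by
        rw [hH]; push_cast; ring
      have a3 : t - (b - k - 1) = H + m + 1 - k := by rw [hH]; ring
      rw [a1, a2, a3, Ring.choose_succ_succ]
      have a4 : ((k : ℤ) + 1) * Ring.choose H (k + 1) = Ring.choose H k * (H - k) := by
        have := Ring.choose_smul_choose H (Nat.le_succ k)
        rw [Nat.choose_succ_self_right, nsmul_eq_mul, Nat.succ_eq_add_one, Nat.add_sub_cancel_left,
          Ring.choose_one_right] at this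
        simpa using this
      linear_combination -a4
    · rw [Matrix.mul_assoc, ← Matrix.mul_smul, ← Matrix.smul_mul, smul_dg]
      congr 3
      funext t
      simp

end

end Groth.Agent.RedSub.H476.Kostant
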