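import Groth.Agent.RedSub.H630.ChevDefs
import Groth.Agent.RedSub.H476.Kostant
import Mathlib.Data.Nat.Choose.Sum
import Mathlib.Algebra.Module.BigOperators

/-!
# The rank one relation for an integral `sl₂`-triple

`rank1`: `u_E(x) u_F(y) = u_F(v⁻¹ y) v^h u_E(v⁻¹ x)`, `v = 1 + x y` invertible, over every commutative ring.
-/

set_option autoImplicit false
set_option linter.unusedSectionVars false
universe u

open Finset Groth.Agent.RedSub.H630.ChevDefs Groth.Agent.RedSub.H476.Kostant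

namespace Groth.Agent.RedSub.H476.Rank1

variable {J : Type} [Fintype J] [DecidableEq J] {B : Type u} [CommRing B]

theorem sum_shift {A : Type u} [AddCommGroup A] [Module B A] (x : B) (G : ℤ → A) (N s P : ℕ)
    (hneg : ∀ a : ℤ, a < 0 → G a = 0) (hbig : ∀ a : ℤ, (N : ℤ) ≤ a → G a = 0) (hP : N + s ≤ P) :
    ∑ p ∈ range P, x ^ p • G ((p : ℤ) - s) = x ^ s • ∑ a ∈ range N, x ^ a • G a := by
  obtain ⟨Q, rfl⟩ : ∃ Q, P = s + (N + Q) := ⟨P - s - N, by omega⟩
  rw [Finset.sum_range_add, Finset.sum_eq_zero, zero_add, Finset.sum_range_add,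
    Finset.sum_eq_zero (s := range Q), add_zero, Finset.smul_sum]
  · refine Finset.sum_congr rfl fun a _ => ?_
    rw [smul_smul, ← pow_add]
    congr 2
    push_cast
    ring
  · intro q _
    rw [hbig _ (by push_cast; omega), smul_zero]
  · intro p hp
    rw [hneg _ (by have := Finset.mem_range.mp hp; omega), smul_zero]

theorem sum_shift₂ {A : Type u} [AddCommGroup A] [Module B A] (x y : B) (G : ℤ → ℤ → A) (N s P : ℕ)
    (hneg : ∀ a b : ℤ, a < 0 ∨ b < 0 → G a b = 0)
    (hbig : ∀ a b : ℤ, (N : ℤ) ≤ a ∨ (N : ℤ) ≤ b → G a b = 0) (hP : N + s ≤ P) :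
    ∑ p ∈ range P, ∑ q ∈ range P, (x ^ p * y ^ q) • G ((p : ℤ) - s) ((q : ℤ) - s) =
      (x * y) ^ s • ∑ a ∈ range N, ∑ b ∈ range N, (x ^ a * y ^ b) • G a b := by
  have h1 : ∀ p : ℕ, ∑ q ∈ range P, (x ^ p * y ^ q) • G ((p : ℤ) - s) ((q : ℤ) - s) =
      x ^ p • (y ^ s • ∑ b ∈ range N, y ^ b • G ((p : ℤ) - s) b) := by
    intro p
    rw [← sum_shift y (fun b => G ((p : ℤ) - s) b) N s P (fun a ha => hneg _ _ (Or.inr ha))
      (fun a ha => hbig _ _ (Or.inr ha)) hP, Finset.smul_sum]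
    simp only [smul_smul]
  rw [Finset.sum_congr rfl fun p _ => h1 p,
    sum_shift x (fun a => y ^ s • ∑ b ∈ range N, y ^ b • G a b) N s P ?_ ?_ hP]
  · simp only [Finset.smul_sum, smul_smul]
    refine Finset.sum_congr rfl fun a _ => Finset.sum_congr rfl fun b _ => ?_
    congr 1
    ring
  · intro a ha
    simp [hneg a _ (Or.inl ha)]
  · intro a ha
    simp [hbig a _ (Or.inl ha)]

/-- Base change of integral matrices. -/
noncomputable abbrev bc (B : Type u) [CommRing B] : Matrix J J ℤ →+* Matrix J J B :=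
  (Int.castRingHom B).mapMatrix

theorem uMat_eq (E : ℕ → Matrix J J ℤ) (N : ℕ) (x : B) :
    uMat E N x = ∑ k ∈ range N, x ^ k • bc B (ext E k) := by
  unfold uMat
  refine Finset.sum_congr rfl fun k _ => ?_
  rw [ext_natCast]
  rfl

theorem bc_dg (h : J → ℤ) (p : ℤ → ℤ) :
    bc B (dg h p) = Matrix.diagonal fun j => ((p (h j) : ℤ) : B) := by
  simp [dg, bc, Matrix.diagonal_map]

section

variable {h : J → ℤ} {E F : ℕ → Matrix J J ℤ} {N : ℕ} (E0 : E 0 = 1) (F0 : F 0 = 1)
  (Emul : ∀ m n, E m * E n = ((m + n).choose m : ℤ) • E (m + n))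
  (Fmul : ∀ m n, F m * F n = ((m + n).choose m : ℤ) • F (m + n))
  (Evan : ∀ n, N ≤ n → E n = 0) (Fvan : ∀ n, N ≤ n → F n = 0)
  (wtE : ∀ j k, E 1 j k ≠ 0 → h j = h k + 2) (wtF : ∀ j k, F 1 j k ≠ 0 → h j = h k - 2)
  (lie : E 1 * F 1 - F 1 * E 1 = Matrix.diagonal h)

theorem ext_van {E : ℕ → Matrix J J ℤ} {N : ℕ} (Evan : ∀ n, N ≤ n → E n = 0) (a : ℤ)
    (ha : a < 0 ∨ (N : ℤ) ≤ a) : ext E a = 0 := by
  rcases ha with ha | ha
  · exact ext_neg E ha
  · obtain ⟨n, rfl⟩ : ∃ n : ℕ, a = n := ⟨a.toNat, by omega⟩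
    rw [ext_natCast]
    exact Evan n (by exact_mod_cast ha)

include E0 F0 Emul Fmul wtE wtF lie in
/-- Kostant's formula, integer-indexed. -/
theorem kostant' (a b : ℤ) (M : ℕ) (hM : a < M) :
    ext E a * ext F b = ∑ k ∈ range M,
      ext F (b - k) * dg h (fun t => Ring.choose (t - a - b + 2 * k) k) * ext E (a - k) := by
  rcases lt_or_ge a 0 with ha | ha
  · rw [ext_neg E ha, Matrix.zero_mul, Finset.sum_eq_zero]
    intro k _
    rw [ext_neg E (by omega : a - (k : ℤ) < 0), Matrix.mul_zero]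
  · obtain ⟨m, rfl⟩ : ∃ m : ℕ, a = m := ⟨a.toNat, by omega⟩
    rw [ext_natCast]
    exact kostant E0 F0 Emul Fmul wtE wtF lie m b M (by exact_mod_cast hM)

include E0 F0 Emul Fmul wtE wtF lie in
/-- The coefficients of `(1 + x y) ^ K u_E(x) u_F(y)`. -/
theorem coeff_eq (K P : ℕ) (p q : ℤ) (hp : p < P) :
    ∑ j ∈ range P, (Ring.choose (K : ℤ) j) • (ext E (p - j) * ext F (q - j)) =
      ∑ s ∈ range P, ext F (q - s) *
        dg h (fun t => Ring.choose (K + t - (p - s) - (q - s)) s) * ext E (p - s) := by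
  have h1 : ∀ j ∈ range P, (Ring.choose (K : ℤ) j) • (ext E (p - j) * ext F (q - j)) =
      ∑ k ∈ range (P - j), (Ring.choose (K : ℤ) j) • (ext F (q - j - k) *
        dg h (fun t => Ring.choose (t - (p - j) - (q - j) + 2 * k) k) * ext E (p - j - k)) := by
    intro j hj
    have hj' := Finset.mem_range.mp hj
    rw [kostant' E0 F0 Emul Fmul wtE wtF lie (p - j) (q - j) (P - j) (by push_cast [hj'.le]; omega),
      Finset.smul_sum]
  rw [Finset.sum_congr rfl h1, ← Finset.sum_range_diag_flip P (fun j k =>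
    (Ring.choose (K : ℤ) j) • (ext F (q - j - k) *
        dg h (fun t => Ring.choose (t - (p - j) - (q - j) + 2 * k) k) * ext E (p - j - k)))]
  refine Finset.sum_congr rfl fun s _ => ?_
  have h2 : ∀ j ∈ range (s + 1), (Ring.choose (K : ℤ) j) • (ext F (q - j - (s - j : ℕ)) *
        dg h (fun t => Ring.choose (t - (p - j) - (q - j) + 2 * (s - j : ℕ)) (s - j)) *
          ext E (p - j - (s - j : ℕ))) =
      ext F (q - s) * dg h (fun t => Ring.choose (K : ℤ) j *
        Ring.choose (t - (p - s) - (q - s)) (s - j)) * ext E (p - s) := by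
    intro j hj
    have hj' : j ≤ s := by have := Finset.mem_range.mp hj; omega
    have e1 : q - j - ((s - j : ℕ) : ℤ) = q - s := by push_cast [hj']; ring
    have e2 : p - j - ((s - j : ℕ) : ℤ) = p - s := by push_cast [hj']; ring
    rw [e1, e2, ← Matrix.smul_mul, ← Matrix.mul_smul, smul_dg]
    congr 3
    funext t
    congr 2
    push_cast [hj']
    ring
  rw [Finset.sum_congr rfl h2, ← Finset.sum_mul, ← Finset.mul_sum]
  congr 2
  ext i i'
  rw [Matrix.sum_apply]
  by_cases hi : i = i'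
  · subst hi
    simp only [dg, Matrix.diagonal_apply_eq]
    have h3 : (K : ℤ) + h i - (p - s) - (q - s) = (K : ℤ) + (h i - (p - s) - (q - s)) := by ring
    rw [h3, Ring.add_choose_eq s (Commute.all _ _), Finset.Nat.sum_antidiagonal_eq_sum_range_succ_mk]
  · simp [dg, Matrix.diagonal_apply_ne _ hi]

theorem sum_choose_pow (z : B) (K P : ℕ) (hP : K < P) :
    ∑ j ∈ range P, ((Ring.choose (K : ℤ) j : ℤ) : B) * z ^ j = (1 + z) ^ K := by
  obtain ⟨Q, rfl⟩ : ∃ Q, P = (K + 1) + Q := ⟨P - (K + 1), by omega⟩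
  rw [Finset.sum_range_add, Finset.sum_eq_zero (s := range Q), add_zero, add_comm (1 : B) z, add_pow]
  · refine Finset.sum_congr rfl fun j _ => ?_
    rw [Ring.choose_natCast]
    simp [mul_comm]
  · intro j _
    rw [Ring.choose_natCast, Nat.choose_eq_zero_of_lt (by omega)]
    simp

theorem zsmul_eq (c : ℤ) (X : Matrix J J B) : c • X = (c : B) • X := by
  rw [← Int.cast_smul_eq_zsmul B]

include Evan Fvan in
/-- The left-hand side. -/
theorem lhs_eq (x y : B) (K P : ℕ) (hP : N + K < P) :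
    ∑ p ∈ range P, ∑ q ∈ range P, (x ^ p * y ^ q) • bc B
        (∑ j ∈ range P, (Ring.choose (K : ℤ) j) • (ext E ((p : ℤ) - j) * ext F ((q : ℤ) - j))) =
      (1 + x * y) ^ K • (uMat E N x * uMat F N y) := by
  have h1 : ∀ p q : ℕ, (x ^ p * y ^ q) • bc B
        (∑ j ∈ range P, (Ring.choose (K : ℤ) j) • (ext E ((p : ℤ) - j) * ext F ((q : ℤ) - j))) =
      ∑ j ∈ range P, ((Ring.choose (K : ℤ) j : ℤ) : B) • ((x ^ p * y ^ q) •
        (bc B (ext E ((p : ℤ) - j)) * bc B (ext F ((q : ℤ) - j)))) := by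
    intro p q
    rw [map_sum, Finset.smul_sum]
    refine Finset.sum_congr rfl fun j _ => ?_
    rw [map_zsmul, map_mul, zsmul_eq, smul_comm]
  have h2 : ∀ j ∈ range P, ∑ p ∈ range P, ∑ q ∈ range P,
      ((Ring.choose (K : ℤ) j : ℤ) : B) • ((x ^ p * y ^ q) •
        (bc B (ext E ((p : ℤ) - j)) * bc B (ext F ((q : ℤ) - j)))) =
      (((Ring.choose (K : ℤ) j : ℤ) : B) * (x * y) ^ j) • (uMat E N x * uMat F N y) := by
    intro j _
    rcases le_or_gt j K with hj | hj
    · simp only [← Finset.smul_sum]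
      rw [sum_shift₂ x y (fun a b => bc B (ext E a) * bc B (ext F b)) N j P ?_ ?_ (by omega),
        mul_smul, uMat_eq, uMat_eq, Finset.sum_mul_sum]
      · congr 2
        refine Finset.sum_congr rfl fun a _ => Finset.sum_congr rfl fun b _ => ?_
        rw [smul_mul_smul_comm]
      · rintro a b (hab | hab)
        · simp [ext_van Evan a (Or.inl hab)]
        · simp [ext_van Fvan b (Or.inl hab)]
      · rintro a b (hab | hab)
        · simp [ext_van Evan a (Or.inr hab)]
        · simp [ext_van Fvan b (Or.inr hab)]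
    · rw [Ring.choose_natCast, Nat.choose_eq_zero_of_lt hj]
      simp
  calc _ = ∑ p ∈ range P, ∑ q ∈ range P, ∑ j ∈ range P, ((Ring.choose (K : ℤ) j : ℤ) : B) •
        ((x ^ p * y ^ q) • (bc B (ext E ((p : ℤ) - j)) * bc B (ext F ((q : ℤ) - j)))) :=
        Finset.sum_congr rfl fun p _ => Finset.sum_congr rfl fun q _ => h1 p q
    _ = ∑ j ∈ range P, ∑ p ∈ range P, ∑ q ∈ range P, ((Ring.choose (K : ℤ) j : ℤ) : B) •
        ((x ^ p * y ^ q) • (bc B (ext E ((p : ℤ) - j)) * bc B (ext F ((q : ℤ) - j)))) := by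
        rw [Finset.sum_congr rfl fun p _ => Finset.sum_comm, Finset.sum_comm]
    _ = _ := by
        rw [Finset.sum_congr rfl h2, ← Finset.sum_smul, sum_choose_pow _ K P (by omega)]

include Evan Fvan in
/-- The right-hand side. -/
theorem rhs_eq (x y : B) (K S P : ℕ) (hP : N + S < P) (hK : ∀ j, 2 * (N : ℤ) ≤ K + h j)
    (hS : ∀ j, (K : ℤ) + h j ≤ S) :
    ∑ p ∈ range P, ∑ q ∈ range P, (x ^ p * y ^ q) • bc B
        (∑ s ∈ range P, ext F ((q : ℤ) - s) *
          dg h (fun t => Ring.choose (K + t - ((p : ℤ) - s) - ((q : ℤ) - s)) s) *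
            ext E ((p : ℤ) - s)) =
      ∑ a ∈ range N, ∑ b ∈ range N, (x ^ a * y ^ b) • (bc B (F b) *
        Matrix.diagonal (fun j => (1 + x * y) ^ (K + h j - a - b : ℤ).toNat) * bc B (E a)) := by
  have hvan : ∀ (s : ℕ) (a b : ℤ), (a < 0 ∨ b < 0) ∨ ((N : ℤ) ≤ a ∨ (N : ℤ) ≤ b) →
      bc B (ext F b * dg h (fun t => Ring.choose (K + t - a - b) s) * ext E a) = 0 := by
    rintro s a b ((hab | hab) | (hab | hab))
    · rw [ext_van Evan a (Or.inl hab)]; simp
    · rw [ext_van Fvan b (Or.inl hab)]; simp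
    · rw [ext_van Evan a (Or.inr hab)]; simp
    · rw [ext_van Fvan b (Or.inr hab)]; simp
  have hvanS : ∀ (s : ℕ) (a b : ℤ), S < s →
      bc B (ext F b * dg h (fun t => Ring.choose (K + t - a - b) s) * ext E a) = 0 := by
    intro s a b hs
    by_cases hab : (a < 0 ∨ b < 0) ∨ ((N : ℤ) ≤ a ∨ (N : ℤ) ≤ b)
    · exact hvan s a b hab
    · have h0 : dg h (fun t => Ring.choose (K + t - a - b) s) = 0 := by
        unfold dg
        rw [← Matrix.diagonal_zero]
        congr 1
        funext j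
        obtain ⟨n, hn⟩ : ∃ n : ℕ, (K : ℤ) + h j - a - b = n :=
          ⟨((K : ℤ) + h j - a - b).toNat, by have := hK j; omega⟩
        change Ring.choose ((K : ℤ) + h j - a - b) s = 0
        rw [hn, Ring.choose_natCast, Nat.choose_eq_zero_of_lt (by have := hS j; omega)]
        rfl
      rw [h0]
      simp
  have h2 : ∀ s ∈ range P, ∑ p ∈ range P, ∑ q ∈ range P, (x ^ p * y ^ q) •
        bc B (ext F ((q : ℤ) - s) *
          dg h (fun t => Ring.choose (K + t - ((p : ℤ) - s) - ((q : ℤ) - s)) s) *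
            ext E ((p : ℤ) - s)) =
      ∑ a ∈ range N, ∑ b ∈ range N, (x ^ a * y ^ b) • ((x * y) ^ s •
        bc B (ext F b * dg h (fun t => Ring.choose (K + t - a - b) s) * ext E a)) := by
    intro s _
    rcases le_or_gt s S with hs | hs
    · rw [sum_shift₂ x y (fun a b => bc B (ext F b *
          dg h (fun t => Ring.choose (K + t - a - b) s) * ext E a)) N s P
          (fun a b hab => hvan s a b (Or.inl hab)) (fun a b hab => hvan s a b (Or.inr hab))
          (by omega)]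
      simp only [Finset.smul_sum]
      exact Finset.sum_congr rfl fun a _ => Finset.sum_congr rfl fun b _ => smul_comm _ _ _
    · simp only [hvanS s _ _ hs, smul_zero, Finset.sum_const_zero]
  calc _ = ∑ p ∈ range P, ∑ q ∈ range P, ∑ s ∈ range P, (x ^ p * y ^ q) •
        bc B (ext F ((q : ℤ) - s) *
          dg h (fun t => Ring.choose (K + t - ((p : ℤ) - s) - ((q : ℤ) - s)) s) *
            ext E ((p : ℤ) - s)) := by
        refine Finset.sum_congr rfl fun p _ => Finset.sum_congr rfl fun q _ => ?_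
        rw [map_sum, Finset.smul_sum]
    _ = ∑ s ∈ range P, ∑ p ∈ range P, ∑ q ∈ range P, (x ^ p * y ^ q) •
        bc B (ext F ((q : ℤ) - s) *
          dg h (fun t => Ring.choose (K + t - ((p : ℤ) - s) - ((q : ℤ) - s)) s) *
            ext E ((p : ℤ) - s)) := by
        rw [Finset.sum_congr rfl fun p _ => Finset.sum_comm, Finset.sum_comm]
    _ = ∑ a ∈ range N, ∑ b ∈ range N, ∑ s ∈ range P, (x ^ a * y ^ b) • ((x * y) ^ s •
        bc B (ext F b * dg h (fun t => Ring.choose (K + t - a - b) s) * ext E a)) := by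
        rw [Finset.sum_congr rfl h2, Finset.sum_comm]
        exact Finset.sum_congr rfl fun a _ => Finset.sum_comm
    _ = _ := by
        refine Finset.sum_congr rfl fun a ha => Finset.sum_congr rfl fun b hb => ?_
        have ha' := Finset.mem_range.mp ha
        have hb' := Finset.mem_range.mp hb
        rw [← Finset.smul_sum]
        congr 1
        have h3 : ∀ s ∈ range P, (x * y) ^ s •
            bc B (ext F b * dg h (fun t => Ring.choose (K + t - a - b) s) * ext E a) =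
            bc B (F b) * ((x * y) ^ s • bc B (dg h (fun t => Ring.choose (K + t - a - b) s))) *
              bc B (E a) := by
          intro s _
          rw [ext_natCast, ext_natCast, map_mul, map_mul, Matrix.mul_smul, Matrix.smul_mul]
        rw [Finset.sum_congr rfl h3, ← Finset.sum_mul, ← Finset.mul_sum]
        congr 2
        ext i i'
        rw [Matrix.sum_apply]
        by_cases hi : i = i'
        · subst hi
          simp only [bc_dg, Matrix.smul_apply, Matrix.diagonal_apply_eq, smul_eq_mul]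
          obtain ⟨n, hn⟩ : ∃ n : ℕ, (K : ℤ) + h i - a - b = n :=
            ⟨((K : ℤ) + h i - a - b).toNat, by have := hK i; omega⟩
          rw [hn, Int.toNat_natCast, ← sum_choose_pow (x * y) n P (by have := hS i; omega)]
          exact Finset.sum_congr rfl fun s _ => mul_comm _ _
        · simp [dg, Matrix.diagonal_apply_ne _ hi]

include E0 F0 Emul Fmul Evan Fvan wtE wtF lie in
/-- **The rank one relation**. -/
theorem rank1 (x y : B) (v : Bˣ) (hv : (v : B) = 1 + x * y) :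
    uMat E N x * uMat F N y = uMat F N ((v⁻¹ : Bˣ) * y) *
      Matrix.diagonal (fun j => ((v ^ h j : Bˣ) : B)) * uMat E N ((v⁻¹ : Bˣ) * x) := by
  obtain ⟨K, S, hK, hS⟩ : ∃ K S : ℕ, (∀ j, 2 * (N : ℤ) ≤ K + h j) ∧ ∀ j, (K : ℤ) + h j ≤ S := by
    refine ⟨2 * N + ∑ j, (h j).natAbs, 2 * N + ∑ j, (h j).natAbs + ∑ j, (h j).natAbs, fun j => ?_,
      fun j => ?_⟩
    all_goals
      have h1 : (h j).natAbs ≤ ∑ j, (h j).natAbs :=
        Finset.single_le_sum (f := fun j => (h j).natAbs) (fun _ _ => Nat.zero_le _)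
          (Finset.mem_univ j)
      omega
  have hL := lhs_eq Evan Fvan x y K (N + K + S + 1) (by omega)
  have hR := rhs_eq (h := h) Evan Fvan x y K S (N + K + S + 1) (by omega) hK hS
  have hLR : (1 + x * y) ^ K • (uMat E N x * uMat F N y) =
      ∑ a ∈ range N, ∑ b ∈ range N, (x ^ a * y ^ b) • (bc B (F b) *
        Matrix.diagonal (fun j => (1 + x * y) ^ (K + h j - a - b : ℤ).toNat) * bc B (E a)) := by
    rw [← hL, ← hR]
    refine Finset.sum_congr rfl fun p hp => Finset.sum_congr rfl fun q _ => ?_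
    rw [coeff_eq E0 F0 Emul Fmul wtE wtF lie K _ p q
      (by have := Finset.mem_range.mp hp; omega)]
  have hu : IsUnit ((1 + x * y) ^ K) := by rw [← hv]; exact v.isUnit.pow K
  refine (IsUnit.smul_left_cancel hu).mp ?_
  rw [hLR, Finset.sum_comm]
  unfold uMat
  rw [Finset.sum_mul, Finset.sum_mul, Finset.smul_sum]
  refine Finset.sum_congr rfl fun b hb => ?_
  rw [Finset.mul_sum, Finset.smul_sum]
  refine Finset.sum_congr rfl fun a ha => ?_
  have ha' := Finset.mem_range.mp ha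
  have hb' := Finset.mem_range.mp hb
  have h5 : (x ^ a * y ^ b) • Matrix.diagonal
        (fun j => (1 + x * y) ^ (K + h j - a - b : ℤ).toNat) =
      (((1 + x * y) ^ K * (((v⁻¹ : Bˣ) : B) * y) ^ b) * (((v⁻¹ : Bˣ) : B) * x) ^ a) •
        Matrix.diagonal (fun j => ((v ^ h j : Bˣ) : B)) := by
    ext i i'
    by_cases hi : i = i'
    · subst hi
      simp only [Matrix.smul_apply, Matrix.diagonal_apply_eq, smul_eq_mul]
      have h6 : (1 + x * y) ^ (K + h i - a - b : ℤ).toNat =
          (1 + x * y) ^ K * ((v⁻¹ : Bˣ) : B) ^ b * ((v⁻¹ : Bˣ) : B) ^ a * ((v ^ h i : Bˣ) : B) := by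
        rw [← hv]
        norm_cast
        rw [← zpow_natCast v, ← zpow_natCast v, ← zpow_natCast (v⁻¹), ← zpow_natCast (v⁻¹),
          inv_zpow', inv_zpow', ← zpow_add, ← zpow_add, ← zpow_add, Int.toNat_of_nonneg
            (by have := hK i; omega)]
        congr 2
        ring
      rw [h6]
      ring
    · simp [Matrix.diagonal_apply_ne _ hi]
  rw [← Matrix.smul_mul, ← Matrix.mul_smul, h5]
  simp only [Matrix.smul_mul, Matrix.mul_smul, smul_smul]
  have h7 : (1 + x * y) ^ K * (((v⁻¹ : Bˣ) : B) * y) ^ b * (((v⁻¹ : Bˣ) : B) * x) ^ a =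
      (1 + x * y) ^ K * ((((v⁻¹ : Bˣ) : B) * x) ^ a * (((v⁻¹ : Bˣ) : B) * y) ^ b) := by ring
  rw [h7]
  rfl

end

/-- **The rank one relation**, with explicit arguments (form of subtask 372). -/
theorem main {J : Type} [Fintype J] [DecidableEq J] (h : J → ℤ) (E F : ℕ → Matrix J J ℤ) (N : ℕ)
    (E0 : E 0 = 1) (F0 : F 0 = 1)
    (Emul : ∀ m n, E m * E n = ((m + n).choose m : ℤ) • E (m + n))
    (Fmul : ∀ m n, F m * F n = ((m + n).choose m : ℤ) • F (m + n))
    (Evan : ∀ n, N ≤ n → E n = 0) (Fvan : ∀ n, N ≤ n → F n = 0)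
    (wtE : ∀ j k, E 1 j k ≠ 0 → h j = h k + 2) (wtF : ∀ j k, F 1 j k ≠ 0 → h j = h k - 2)
    (lie : E 1 * F 1 - F 1 * E 1 = Matrix.diagonal h) {B : Type u} [CommRing B] (x y : B) (v : Bˣ)
    (hv : (v : B) = 1 + x * y) :
    uMat E N x * uMat F N y = uMat F N ((v⁻¹ : Bˣ) * y) *
      Matrix.diagonal (fun j => ((v ^ h j : Bˣ) : B)) * uMat E N ((v⁻¹ : Bˣ) * x) :=
  rank1 E0 F0 Emul Fmul Evan Fvan wtE wtF lie x y v hv

end Groth.Agent.RedSub.H476.Rank1
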